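/-
Multiplicities of subsheaves and bounds for weights of decorated sheaves on curves.
-/
import Groth.Agent.L03.ShStab.Basic
import Groth.Agent.L06.SupportStalk
import Groth.Agent.L20.QfCurve
import Groth.Prelude.Def_DecSh2
import Groth.Prelude.Def_TorSh
import Mathlib.RingTheory.Ideal.MinimalPrime.Noetherian
import Mathlib.RingTheory.Spectrum.Prime.Topology

set_option autoImplicit false
set_option linter.style.haveILetI false
set_option maxSynthPendingDepth 3
set_option backward.isDefEq.respectTransparency.types false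

universe u

open CategoryTheory CategoryTheory.Limits AlgebraicGeometry Polynomial

noncomputable section

namespace Groth.L13.DecBound

variable {X : Scheme.{u}}

/-- A torsion-free coherent module on a reduced scheme without isolated points has no isolated point of support. -/
theorem not_dim_support_le_zero [IsReduced X] [IsLocallyNoetherian X] (hpure : ∀ x : X, ¬ IsOpen ({x} : Set X))
    {M : X.Modules} (hM : Coh.IsCoh M) (htf : TorSh.IsTorsionFree M) (h0 : ¬ IsZero M) :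
    ¬ topologicalKrullDim (CohB1.support M) ≤ 0 := by
  intro hdim
  haveI : Coh.IsQCoh M := hM.1
  have hclosed : IsClosed (CohB1.support M) := Groth.L16.CohSupport.isClosed_support M hM.2
  obtain ⟨x, hx⟩ : (CohB1.support M).Nonempty := by
    rw [Set.nonempty_iff_ne_empty]
    exact fun h => h0 ((Groth.L21.Mod.isZero_iff_support_eq_empty M).2 h)
  -- points of the support have no proper specialisations in the support
  have hpts : ∀ a b : X, a ∈ CohB1.support M → a ⤳ b → a = b := by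
    intro a b ha hab
    have hb : b ∈ CohB1.support M := hab.mem_closed hclosed ha
    by_contra hne
    have hlt : closure ({⟨b, hb⟩} : Set (CohB1.support M)) < closure {⟨a, ha⟩} := by
      refine lt_of_le_of_ne (closure_minimal (Set.singleton_subset_iff.2 ?_) isClosed_closure) fun h => hne ?_
      · exact specializes_iff_mem_closure.1 (Topology.IsInducing.subtypeVal.specializes_iff.1 hab)
      · have h1 : (⟨a, ha⟩ : CohB1.support M) ∈ closure {⟨b, hb⟩} := by rw [h]; exact subset_closure rfl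
        have h2 := (specializes_iff_mem_closure.2 h1).map continuous_subtype_val
        exact (hab.antisymm h2).eq
    let A : TopologicalSpace.IrreducibleCloseds (CohB1.support M) :=
      ⟨closure {⟨b, hb⟩}, isIrreducible_singleton.closure, isClosed_closure⟩
    let B : TopologicalSpace.IrreducibleCloseds (CohB1.support M) :=
      ⟨closure {⟨a, ha⟩}, isIrreducible_singleton.closure, isClosed_closure⟩
    have hAB : A < B := hlt
    have h2 : Order.krullDim (TopologicalSpace.IrreducibleCloseds (CohB1.support M)) ≤ 0 := hdim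
    rw [Order.krullDim_nonpos_iff_forall_isMax] at h2
    exact (h2 A).not_lt hAB
  have hxc : IsClosed ({x} : Set X) := by
    rw [← closure_subset_iff_isClosed]
    exact fun z hz => (hpts x z hx (specializes_iff_mem_closure.2 hz)).symm
  -- a proper generisation
  obtain ⟨y, hyx, hne⟩ : ∃ y, y ⤳ x ∧ y ≠ x := by
    by_contra! h
    exact hpure x (Groth.L20.QfCurve.isOpen_singleton hxc h)
  let R := X.presheaf.stalk x
  haveI := Groth.L06.SupportStalk.finite_stalk M hM x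
  have hsupp : ∀ Q ∈ Module.support R (M.presheaf.stalk x), Q = IsLocalRing.closedPoint R := by
    intro Q hQ
    have h1 := (Groth.L06.SupportStalk.mem_support_iff M hM x Q).1 hQ
    refine (X.fromSpecStalk x).isEmbedding.injective ?_
    rw [hpts _ x h1 (Groth.L07.EquidimPoint.specializes_point x Q)]
    exact Scheme.fromSpecStalk_closedPoint.symm
  obtain ⟨Q, hQy⟩ : y ∈ Set.range (X.fromSpecStalk x) := by rw [Scheme.range_fromSpecStalk]; exact hyx
  haveI : IsNoetherianRing R := inferInstance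
  obtain ⟨r, hrm, hr⟩ : ∃ r ∈ IsLocalRing.maximalIdeal R, ∀ P ∈ minimalPrimes R, r ∉ P := by
    by_contra! hall
    obtain ⟨P, hP, hmP⟩ := (Ideal.subset_union_prime_finite (minimalPrimes.finite_of_isNoetherianRing R) (f := id) ⊥ ⊥
      (fun P hP _ _ => hP.isPrime)).1 (show (IsLocalRing.maximalIdeal R : Set R) ⊆ ⋃ P ∈ minimalPrimes R, (P : Set R) from
        fun r hr => let ⟨P, hP, hrP⟩ := hall r hr; Set.mem_iUnion₂.2 ⟨P, hP, hrP⟩)
    have h1 : Q.asIdeal ≤ P := (IsLocalRing.le_maximalIdeal Q.2.ne_top).trans hmP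
    have h2 : Q.asIdeal = IsLocalRing.maximalIdeal R :=
      le_antisymm (IsLocalRing.le_maximalIdeal Q.2.ne_top)
        (hmP.trans (hP.2 ⟨Q.2, bot_le⟩ h1))
    apply hne
    rw [← hQy, show Q = IsLocalRing.closedPoint R from PrimeSpectrum.ext h2]
    exact Scheme.fromSpecStalk_closedPoint
  have hreg : IsRegular r := by
    rw [Commute.isRegular_iff (Commute.all r)]
    intro a b hab
    have h : a - b ∈ sInf (minimalPrimes R) := Ideal.mem_sInf.2 fun {P} hP =>
      (hP.isPrime.mem_or_mem (show r * (a - b) ∈ P by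
        replace hab : r * a = r * b := hab
        rw [mul_sub, hab, sub_self]; exact P.zero_mem)).resolve_left (hr P hP)
    rw [minimalPrimes, Ideal.sInf_minimalPrimes] at h
    exact sub_eq_zero.1 ((IsReduced.eq_zero (a - b) h))
  have hrad : r ∈ (Module.annihilator R (M.presheaf.stalk x)).radical := by
    rw [Ideal.radical_eq_sInf]
    refine Ideal.mem_sInf.2 fun {J} ⟨hJ, hJp⟩ => ?_
    have hmem : (⟨J, hJp⟩ : PrimeSpectrum R) ∈ Module.support R (M.presheaf.stalk x) := by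
      rw [Module.support_eq_zeroLocus]; exact hJ
    have := hsupp _ hmem
    rw [show J = IsLocalRing.maximalIdeal R from congrArg PrimeSpectrum.asIdeal this]
    exact hrm
  obtain ⟨n, hn⟩ := hrad
  haveI := htf x
  have hinj : Function.Injective fun m : M.presheaf.stalk x => r ^ n • m :=
    Module.IsTorsionFree.isSMulRegular (hreg.pow n)
  exact hx ⟨fun a b => hinj (by simp [Module.mem_annihilator.1 hn])⟩

variable {k : Type u} [Field k] [X.Over (Spec (CommRingCat.of k))] [IsProper (X ↘ Spec (CommRingCat.of k))]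
  {L : X.Modules}

theorem mult_eq_coeff {M : X.Modules} {P : ℚ[X]} (hdeg : P.natDegree ≤ 1)
    (hP : _root_.ShStab.IsHilbPoly k X L M P) : ((DecSh.mult k X L M : ℤ) : ℚ) = P.coeff 1 := by
  have h0 := hP 0
  have h1 := hP 1
  rw [Groth.L03.Euler.euler_twist_zero] at h0
  have hiso : Curv2.euler k X (_root_.ShStab.twist X L M 1) = Curv2.euler k X (CohB1.tensorMod M L) :=
    Groth.L03.Euler.euler_iso (Groth.L00.Tensor.tensorIso (Iso.refl M) (Groth.L00.Tensor.tensorUnitLeft L))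
  rw [hiso] at h1
  obtain ⟨a, b, rfl⟩ := Polynomial.exists_eq_X_add_C_of_natDegree_le_one hdeg
  simp only [eval_add, eval_mul, eval_C, eval_X, Nat.cast_zero, Nat.cast_one, mul_zero, zero_add, mul_one] at h0 h1
  rw [DecSh.mult, Int.cast_sub, h0, h1]
  simp

theorem mult_nonneg (hL : CohB1.IsAmple L) (hdim : topologicalKrullDim X ≤ 1) {M : X.Modules} (hM : Coh.IsCoh M) :
    0 ≤ DecSh.mult k X L M := by
  have hd : topologicalKrullDim (CohB1.support M) ≤ (1 : ℕ) := (Topology.IsInducing.subtypeVal.topologicalKrullDim_le).trans hdim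
  obtain ⟨P, hdeg, hP⟩ := Groth.L03.Euler.exists_isHilbPoly (k := k) hL.1 hM hd
  have h := Groth.L03.ShStab.PolyOrd.alpha_nonneg_iff.1 (Groth.L03.ShStab.Basic.alpha_nonneg hL hM hd hP)
  rw [← mult_eq_coeff hdeg hP] at h
  exact_mod_cast h

theorem mult_add (hL : CohB1.IsAmple L) {S : ShortComplex X.Modules} (hS : S.ShortExact)
    (h₁ : Coh.IsCoh S.X₁) (h₂ : Coh.IsCoh S.X₂) (h₃ : Coh.IsCoh S.X₃) :
    DecSh.mult k X L S.X₂ = DecSh.mult k X L S.X₁ + DecSh.mult k X L S.X₃ := by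
  haveI : IsLocallyNoetherian X := LocallyOfFiniteType.isLocallyNoetherian (X ↘ Spec (CommRingCat.of k))
  have e1 : Curv2.euler k X S.X₂ = Curv2.euler k X S.X₁ + Curv2.euler k X S.X₃ :=
    Groth.L03.Euler.euler_add (k := k) hS h₁ h₂ h₃
  have e2 := Groth.L03.Euler.euler_add (k := k) (Groth.L03.Euler.shortExact_tensor hL.1 hS)
      (Groth.L03.Euler.isCoh_tensor hL.1 h₁) (Groth.L03.Euler.isCoh_tensor hL.1 h₂) (Groth.L03.Euler.isCoh_tensor hL.1 h₃)
  change Curv2.euler k X (CohB1.tensorMod S.X₂ L) =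
    Curv2.euler k X (CohB1.tensorMod S.X₁ L) + Curv2.euler k X (CohB1.tensorMod S.X₃ L) at e2
  simp only [DecSh.mult, e1, e2]; ring

theorem mult_le (hL : CohB1.IsAmple L) (hdim : topologicalKrullDim X ≤ 1) {F E : X.Modules} (ι : F ⟶ E) [Mono ι]
    (hF : Coh.IsCoh F) (hE : Coh.IsCoh E) : DecSh.mult k X L F ≤ DecSh.mult k X L E := by
  have hC := (Groth.L03.ShStab.Basic.coh_parts k hF hE ι).2.2
  have := mult_add (k := k) hL (ShortComplex.ShortExact.mk (ShortComplex.exact_cokernel ι) :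
      (ShortComplex.mk ι (cokernel.π ι) (cokernel.condition _)).ShortExact) hF hE hC
  have h := mult_nonneg (k := k) hL hdim hC
  change DecSh.mult k X L E = DecSh.mult k X L F + DecSh.mult k X L (cokernel ι) at this
  omega

theorem isTorsionFree_sub' {F E : X.Modules} (ι : F ⟶ E) [Mono ι] (htf : TorSh.IsTorsionFree E) :
    TorSh.IsTorsionFree F := fun x => by
  have h : Function.Injective ((Groth.L00.Stk.F X x).map ι) := (Groth.L21.Mod.mono_iff_stalk_injective ι).1 ‹_› x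
  refine @Function.Injective.moduleIsTorsionFree _ _ _ _ _ _ _ _ (htf x) _ h ?_
  exact fun r m => ((Groth.L00.Stk.F X x).map ι).hom.map_smul r m

theorem mult_pos [IsReduced X] (hL : CohB1.IsAmple L) (hdim : topologicalKrullDim X ≤ 1)
    (hpure : ∀ x : X, ¬ IsOpen ({x} : Set X)) {M : X.Modules} (hM : Coh.IsCoh M) (htf : TorSh.IsTorsionFree M)
    (h0 : ¬ IsZero M) : 1 ≤ DecSh.mult k X L M := by
  haveI : IsLocallyNoetherian X := LocallyOfFiniteType.isLocallyNoetherian (X ↘ Spec (CommRingCat.of k))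
  have hd : topologicalKrullDim (CohB1.support M) ≤ ((1 : ℕ) : WithBot ℕ∞) :=
    (Topology.IsInducing.subtypeVal.topologicalKrullDim_le).trans hdim
  obtain ⟨e, he, heq⟩ := Groth.L03.ShStab.Basic.exists_nat_dim h0 hd
  have he1 : e = 1 := by
    rcases Nat.le_one_iff_eq_zero_or_eq_one.1 he with rfl | rfl
    · exact absurd (le_of_eq heq) (not_dim_support_le_zero hpure hM htf h0)
    · rfl
  subst he1
  obtain ⟨P, hdeg, hP⟩ := Groth.L03.Euler.exists_isHilbPoly (k := k) hL.1 hM hd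
  have h := Groth.L03.ShStab.PolyOrd.alpha_pos_iff.1 (Groth.L03.ShStab.Basic.alpha_pos hL hM heq hP)
  rw [← mult_eq_coeff hdeg hP] at h
  exact_mod_cast Int.add_one_le_iff.2 (show 0 < DecSh.mult k X L M by exact_mod_cast h)

section Gam

variable {C : Type*} [Category C] {E : C} (𝓕 : DecSh.WFilt E) (αE : ℤ) (α : Subobject E → ℤ) {a : ℕ}

theorem nu_le (I : Fin a → Fin (𝓕.t + 1)) (i : Fin 𝓕.t) : 𝓕.nu αE α I i ≤ a :=
  (Finset.card_le_univ _).trans (Fintype.card_fin a).le

/-- One summand of the weight of a multi-index. -/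
theorem abs_term_le (hα : ∀ i, 1 ≤ α (𝓕.piece i)) (hle : ∀ i, α (𝓕.piece i) ≤ αE)
    (I : Fin a → Fin (𝓕.t + 1)) (i : Fin 𝓕.t) :
    |(a : ℚ) * (α (𝓕.piece i) : ℚ) - (𝓕.nu αE α I i : ℚ) * (αE : ℚ)| ≤ (a : ℚ) * ((αE : ℚ) - 1) := by
  have h1 : (1 : ℚ) ≤ (α (𝓕.piece i) : ℚ) := by exact_mod_cast hα i
  have hn : (𝓕.nu αE α I i : ℚ) ≤ (a : ℚ) := by exact_mod_cast nu_le 𝓕 αE α I i
  have hn0 : (0 : ℚ) ≤ (𝓕.nu αE α I i : ℚ) := Nat.cast_nonneg _
  rcases (hle i).eq_or_lt with h | h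
  · have hnu : 𝓕.nu αE α I i = a := by
      rw [DecSh.WFilt.nu, Finset.filter_true_of_mem, Finset.card_univ, Fintype.card_fin]
      intro j _
      induction I j using Fin.lastCases with
      | last => rw [DecSh.WFilt.mulX_last, h]
      | cast l => rw [DecSh.WFilt.mulX_castSucc, h]; exact hle l
    rw [hnu, h, sub_self, abs_zero]
    have : (1 : ℚ) ≤ (αE : ℚ) := h ▸ h1
    exact mul_nonneg (Nat.cast_nonneg a) (by linarith)
  · have h2 : (α (𝓕.piece i) : ℚ) + 1 ≤ (αE : ℚ) := by exact_mod_cast h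
    rw [abs_le]
    constructor <;> nlinarith

theorem abs_gam_le (hα : ∀ i, 1 ≤ α (𝓕.piece i)) (hle : ∀ i, α (𝓕.piece i) ≤ αE)
    (I : Fin a → Fin (𝓕.t + 1)) : |𝓕.gam αE α I| ≤ (∑ i, 𝓕.wt i) * (a : ℚ) * ((αE : ℚ) - 1) := by
  refine (Finset.abs_sum_le_sum_abs _ _).trans ?_
  rw [mul_assoc, Finset.sum_mul]
  refine Finset.sum_le_sum fun i _ => ?_
  rw [abs_mul, abs_of_pos (𝓕.wt_pos i)]
  exact mul_le_mul_of_nonneg_left (abs_term_le 𝓕 αE α hα hle I i) (𝓕.wt_pos i).le

/-- Dropping steps of a filtration. -/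
theorem mu_le_sub (hα : ∀ i, 1 ≤ α (𝓕.piece i)) (hle : ∀ i, α (𝓕.piece i) ≤ αE) (N : DecSh.NV E a)
    (𝓖 : DecSh.WFilt E) (e : Fin 𝓖.t → Fin 𝓕.t) (hpiece : ∀ j, 𝓖.piece j = 𝓕.piece (e j))
    (hwt : ∀ j, 𝓖.wt j = 𝓕.wt (e j)) :
    𝓕.mu αE α N ≤ 𝓖.mu αE α N + ((∑ i, 𝓕.wt i) - ∑ j, 𝓖.wt j) * (a : ℚ) * ((αE : ℚ) - 1) := by
  classical
  obtain ⟨J, hJ, hJμ⟩ := 𝓖.exists_gam_eq_mu αE α N
  let e' : Fin (𝓖.t + 1) → Fin (𝓕.t + 1) := Fin.lastCases (Fin.last _) fun j => (e j).castSucc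
  have he_inj : Function.Injective e := fun i j h =>
    𝓖.piece_strictMono.injective (by rw [hpiece, hpiece, h])
  have hX : ∀ j, 𝓕.pieceX (e' j) = 𝓖.pieceX j := by
    intro j
    induction j using Fin.lastCases with
    | last => simp [e']
    | cast j => simp [e', hpiece]
  have hmul : ∀ j, 𝓕.mulX αE α (e' j) = 𝓖.mulX αE α j := by
    intro j
    induction j using Fin.lastCases with
    | last => simp [e']
    | cast j => simp [e', hpiece]
  have hAdm : 𝓕.Adm N (e' ∘ J) := by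
    show N.nz fun j => 𝓕.pieceX (e' (J j))
    simp only [hX]
    exact hJ
  refine (𝓕.mu_le_gam αE α N hAdm).trans ?_
  rw [← hJμ]
  let t : Fin 𝓕.t → ℚ := fun i =>
    𝓕.wt i * ((a : ℚ) * (α (𝓕.piece i) : ℚ) - (𝓕.nu αE α (e' ∘ J) i : ℚ) * (αE : ℚ))
  have hG : 𝓖.gam αE α J = ∑ i ∈ Finset.univ.image e, t i := by
    rw [Finset.sum_image he_inj.injOn]
    refine Finset.sum_congr rfl fun j _ => ?_
    simp only [t, ← hwt, ← hpiece]
    have hnu : 𝓖.nu αE α J j = 𝓕.nu αE α (e' ∘ J) (e j) := by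
      simp only [DecSh.WFilt.nu, Function.comp_apply, hmul, hpiece]
    rw [hnu]
  have hrest : ∑ i ∈ (Finset.univ.image e)ᶜ, t i ≤
      ((∑ i, 𝓕.wt i) - ∑ j, 𝓖.wt j) * ((a : ℚ) * ((αE : ℚ) - 1)) := by
    have hw : (∑ i, 𝓕.wt i) - ∑ j, 𝓖.wt j = ∑ i ∈ (Finset.univ.image e)ᶜ, 𝓕.wt i := by
      rw [← Finset.sum_add_sum_compl (Finset.univ.image e), Finset.sum_image he_inj.injOn]
      simp [hwt]
    rw [hw, Finset.sum_mul]
    exact Finset.sum_le_sum fun i _ => mul_le_mul_of_nonneg_left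
      ((le_abs_self _).trans (abs_term_le 𝓕 αE α hα hle _ i)) (𝓕.wt_pos i).le
  have hsum : 𝓕.gam αE α (e' ∘ J) = ∑ i, t i := rfl
  rw [hsum, ← Finset.sum_add_sum_compl (Finset.univ.image e), ← hG, mul_assoc]
  linarith

/-- The lower bound for one-step filtrations. -/
theorem single_mu_ge {P : Subobject E} (hP : P ≠ ⊤) (hP0 : ¬ IsZero (P : C)) (hαE : 0 ≤ αE) (N : DecSh.NV E a) :
    (a : ℚ) * ((α P : ℚ) - (αE : ℚ)) ≤ (DecSh.WFilt.single P hP hP0).mu αE α N := by
  obtain ⟨I, -, hI⟩ := (DecSh.WFilt.single P hP hP0).exists_gam_eq_mu αE α N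
  rw [← hI]
  have hn : ((DecSh.WFilt.single P hP hP0).nu αE α I ⟨0, Nat.one_pos⟩ : ℚ) ≤ (a : ℚ) := by
    exact_mod_cast nu_le _ αE α I _
  have h0 : (0 : ℚ) ≤ (αE : ℚ) := by exact_mod_cast hαE
  show _ ≤ ∑ i : Fin 1, (1 : ℚ) * _
  rw [Fin.sum_univ_one, one_mul]
  have : ((DecSh.WFilt.single P hP hP0).nu αE α I (0 : Fin 1) : ℚ) ≤ (a : ℚ) := hn
  show (a : ℚ) * ((α P : ℚ) - (αE : ℚ)) ≤ (a : ℚ) * (α P : ℚ) - _ * (αE : ℚ)
  nlinarith

theorem msum_single {P : Subobject E} (hP : P ≠ ⊤) (hP0 : ¬ IsZero (P : C)) (dE : ℚ) (d : Subobject E → ℚ) :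
    (DecSh.WFilt.single P hP hP0).msum αE α dE d = (αE : ℚ) * d P - (α P : ℚ) * dE := by
  show ∑ i : Fin 1, (1 : ℚ) * ((αE : ℚ) * d P - (α P : ℚ) * dE) = _
  rw [Fin.sum_univ_one, one_mul]

end Gam

end Groth.L13.DecBound
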